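import Cfsg.Agent.H490.OZ.Six
import Cfsg.Agent.H730.OZ.Asm
import Cfsg.Agent.H345.RecCo3
import Cfsg.Agent.H49.CoStab

/-!
# One vanishing class: `Co₃` (helper490, S4842)
-/

set_option autoImplicit false
set_option maxRecDepth 100000

open Cfsg Cfsg.Agent.Characters Cfsg.Agent.H732.VZ Cfsg.Agent.H604.OZ Cfsg.Agent.H672.OZ

namespace Cfsg.Agent.H490.OZ

universe u

theorem row_co3' : H730.OZ.Row Spor.Co3 := by
  have hN : Nat.card Spor.Co3 = 495766656000 := H345.RecCo.card_co3
  have hfin : Finite Spor.Co3 := H345.RecCo.finite_co3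
  have hs : IsSimpleGroup Spor.Co3 := H49.CoStab.simple_co3
  refine row_of fun χ x h => ?_
  have h4 : 4 ≤ cent x := four_le_cent h (by rw [hN]; norm_num) (by rw [hN]; norm_num)
  have h11 : charDegree (χ : Spor.Co3 → ℂ) % 11 = 1 ∨ charDegree (χ : Spor.Co3 → ℂ) % 11 = 11 - 1 :=
    mod_two h (by norm_num) (by norm_num) (by rw [hN]; norm_num) (by rw [hN]; norm_num) (by rw [hN]; norm_num)
      (fun y hy => H345.RecCo.co3_cent_11 hy) h4
  have hiso : ∀ r ∈ [7, 11, 23], charDegree (χ : Spor.Co3 → ℂ) % r = 0 ∨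
      charDegree (χ : Spor.Co3 → ℂ) % r = 1 ∨ charDegree (χ : Spor.Co3 → ℂ) % r = r - 1 := by
    intro r hr
    simp only [List.mem_cons, List.not_mem_nil, or_false] at hr
    rcases hr with rfl | rfl | rfl
    · exact Or.inr (mod_six h (by norm_num) (by norm_num) (by rw [hN]; norm_num) (by rw [hN]; norm_num)
        (by rw [hN]; norm_num) (fun y hy => H345.RecCo.co3_cent_seven hy) (fun g hg => H345.RecCo.co3_n42 ⟨g, hg⟩) h4)
    · exact Or.inr h11
    · exact iso_mod h (by norm_num) (by norm_num) (by rw [hN]; norm_num) (by rw [hN]; norm_num) (by rw [hN]; norm_num)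
        (fun y hy => H345.RecCo.co3_cent_23 hy) h4
  have hm := mem_of_sieve h hN (l := [(2, 10), (3, 7), (5, 3), (7, 1), (11, 1), (23, 1)]) (by decide +kernel)
    (by
      intro x hx
      simp only [List.mem_cons, List.not_mem_nil, or_false] at hx
      rcases hx with rfl | rfl | rfl | rfl | rfl | rfl <;> norm_num)
    (by decide +kernel) h4 hiso (D := [22, 3520, 3564, 6600]) (by decide +kernel)
  simp only [List.mem_cons, List.not_mem_nil, or_false] at hm
  rcases hm with hm | hm | hm | hm <;> rw [hm] at h11 <;> norm_num at h11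

/-- **`Co₃`.** -/
theorem row_co3 {S : Type u} [Group S] [Finite S] (_hs : IsSimpleGroup S) (h : Spor.IsoCo3 S) : H730.OZ.Row S := by
  obtain ⟨e⟩ := h
  have hfin : Finite Spor.Co3 := Finite.of_equiv _ e.toEquiv
  exact H730.OZ.Row.congr e row_co3'

end Cfsg.Agent.H490.OZ
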