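import Cfsg.Agent.H490.OZ.Eight
import Cfsg.Agent.H490.OZ.SixteenB
import Cfsg.Agent.H730.OZ.Asm
import Cfsg.Agent.H849.OZ.Bad
import Cfsg.Agent.H345.RecCo2
import Cfsg.Agent.H604.Cop.Conway
import Cfsg.Agent.H633.Dl.Co2Seven

/-!
# One vanishing class: `Co₂` (helper490, S4842)
-/

set_option autoImplicit false
set_option maxRecDepth 100000

open Cfsg Cfsg.Agent.Characters Cfsg.Agent.H732.VZ Cfsg.Agent.H604.OZ Cfsg.Agent.H672.OZ
open Subgroup (centralizer mem_centralizer_singleton_iff)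

namespace Cfsg.Agent.H490.OZ

universe u

theorem cent_eleven {x : Spor.Co2} (hx : orderOf x = 11) : Nat.card (centralizer ({x} : Set Spor.Co2)) = 11 := by
  have hcard : Nat.card Spor.Co2 = 42305421312000 := H345.RecCo.card_co2
  have hfin : Finite Spor.Co2 := Nat.finite_of_card_ne_zero (by rw [hcard]; norm_num)
  have h11 : Nat.Prime 11 := by norm_num
  have hxc : x ∈ centralizer ({x} : Set Spor.Co2) := mem_centralizer_singleton_iff.2 rfl
  have key : ∀ q : ℕ, q.Prime → q ≠ 11 → ¬ H58.Rec.HasOrd Spor.Co2 (11 * q) →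
      ¬ q ∣ Nat.card (centralizer ({x} : Set Spor.Co2)) := by
    intro q hq hne hno hd
    have hq' : Fact q.Prime := ⟨hq⟩
    obtain ⟨y, hy⟩ := exists_prime_orderOf_dvd_card' q hd
    have hxy : Commute x (y : Spor.Co2) := (mem_centralizer_singleton_iff.1 y.2).symm
    exact hno (H58.Rec.hasOrd_mul hxy hx (by rw [Subgroup.orderOf_coe, hy])
      ((Nat.coprime_primes h11 hq).2 (Ne.symm hne)))
  have h23 : ¬ H58.Rec.HasOrd Spor.Co2 (11 * 23) := by
    rintro ⟨g, hg⟩
    have hz : orderOf (g ^ 11) = 23 := by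
      rw [orderOf_pow_of_dvd (by norm_num) (by rw [hg]; norm_num), hg]
    have h1 := H604.Cop.Conway.self_co2 (g ^ 11) hz
    have h2 : Subgroup.zpowers g ≤ centralizer ({g ^ 11} : Set Spor.Co2) := by
      rw [Subgroup.zpowers_le, mem_centralizer_singleton_iff]
      exact (Commute.refl g).pow_right 11
    have h3 := Subgroup.card_dvd_of_le h2
    rw [Nat.card_zpowers, hg, h1] at h3
    revert h3
    norm_num
  have k2 := key 2 (by norm_num) (by norm_num) H345.RecCo.co2_n22
  have k3 := key 3 (by norm_num) (by norm_num) H345.RecCo.co2_n33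
  have k5 := key 5 (by norm_num) (by norm_num) H345.RecCo.co2_n55
  have k7 := key 7 (by norm_num) (by norm_num) H345.RecCo.co2_n77
  have k23 := key 23 (by norm_num) (by norm_num) h23
  have hn : Nat.card (centralizer ({x} : Set Spor.Co2)) ∣ 11 * (2 ^ 18 * (3 ^ 6 * (5 ^ 3 * (7 * 23)))) := by
    have h1 : Nat.card (centralizer ({x} : Set Spor.Co2)) ∣ Nat.card Spor.Co2 := Subgroup.card_subgroup_dvd_card _
    rw [hcard] at h1
    exact h1.trans (by norm_num)
  have h1 : 11 ∣ Nat.card (centralizer ({x} : Set Spor.Co2)) := by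
    have h2 := _root_.orderOf_dvd_natCard (⟨x, hxc⟩ : centralizer ({x} : Set Spor.Co2))
    rwa [Subgroup.orderOf_mk, hx] at h2
  generalize Nat.card (centralizer ({x} : Set Spor.Co2)) = c at *
  have cop : ∀ q : ℕ, q.Prime → ¬ q ∣ c → ∀ k, c.Coprime (q ^ k) := fun q hq h k =>
    (((Nat.Prime.coprime_iff_not_dvd hq).2 h).symm).pow_right k
  have e1 : c.Coprime (2 ^ 18 * (3 ^ 6 * (5 ^ 3 * (7 * 23)))) := by
    refine Nat.Coprime.mul_right (cop 2 (by norm_num) k2 _) (Nat.Coprime.mul_right (cop 3 (by norm_num) k3 _)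
      (Nat.Coprime.mul_right (cop 5 (by norm_num) k5 _) (Nat.Coprime.mul_right ?_ ?_)))
    · simpa using cop 7 (by norm_num) k7 1
    · simpa using cop 23 (by norm_num) k23 1
  exact Nat.dvd_antisymm (e1.dvd_of_dvd_mul_right hn) h1

theorem row_co2' : H730.OZ.Row Spor.Co2 := by
  have hN : Nat.card Spor.Co2 = 42305421312000 := H345.RecCo.card_co2
  have hfin : Finite Spor.Co2 := Nat.finite_of_card_ne_zero (by rw [hN]; norm_num)
  have hs : IsSimpleGroup Spor.Co2 := H49.CoStab.simple_co2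
  refine row_of fun χ x h => ?_
  have h4 : 4 ≤ cent x := four_le_cent h (by rw [hN]; norm_num) (by rw [hN]; norm_num)
  obtain ⟨z, hz, -, hC, -⟩ := H633.Dl.Co2Seven.main
  have h7 : charDegree (χ : Spor.Co2 → ℂ) % 7 = 1 ∨ charDegree (χ : Spor.Co2 → ℂ) % 7 = 7 - 1 :=
    mod_eight h (by rw [hN]; norm_num) (by rw [hN]; norm_num) (by rw [hN]; norm_num) hz hC h4
  have hiso : ∀ r ∈ [7, 11, 23], charDegree (χ : Spor.Co2 → ℂ) % r = 0 ∨
      charDegree (χ : Spor.Co2 → ℂ) % r = 1 ∨ charDegree (χ : Spor.Co2 → ℂ) % r = r - 1 := by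
    intro r hr
    simp only [List.mem_cons, List.not_mem_nil, or_false] at hr
    rcases hr with rfl | rfl | rfl
    · exact Or.inr h7
    · exact iso_mod h (by norm_num) (by norm_num) (by rw [hN]; norm_num) (by rw [hN]; norm_num) (by rw [hN]; norm_num)
        (fun y hy => cent_eleven hy) h4
    · exact iso_mod h (by norm_num) (by norm_num) (by rw [hN]; norm_num) (by rw [hN]; norm_num) (by rw [hN]; norm_num)
        (fun y hy => H604.Cop.Conway.self_co2 y hy) h4
  have hm := mem_of_sieve h hN (l := [(2, 18), (3, 6), (5, 3), (7, 1), (11, 1), (23, 1)]) (by decide +kernel)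
    (by
      intro x hx
      simp only [List.mem_cons, List.not_mem_nil, or_false] at hx
      rcases hx with rfl | rfl | rfl | rfl | rfl | rfl <;> norm_num)
    (by decide +kernel) h4 hiso
    (D := [22, 252, 3520, 3564, 6600, 11340, 21504, 304128, 563200, 570240, 967680, 1069200]) (by decide +kernel)
  -- an element of order 16
  have hy : ∀ m : ℕ, m.Coprime (Nat.card Spor.Co2) →
      IsConj (Co2Type.Mono.mo2 Sixteen.n0 Sixteen.Q0 ^ m) (Co2Type.Mono.mo2 Sixteen.n0 Sixteen.Q0) := fun m hm =>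
    Sixteen.rational (hm.coprime_dvd_right (by rw [hN]; norm_num))
  have hy2 : ∃ n, orderOf (Co2Type.Mono.mo2 Sixteen.n0 Sixteen.Q0) = 2 ^ n := by
    have h1 : orderOf (Co2Type.Mono.mo2 Sixteen.n0 Sixteen.Q0) ∣ 2 ^ 4 := orderOf_dvd_of_pow_eq_one Sixteen.y_pow
    obtain ⟨n, -, h2⟩ := (Nat.dvd_prime_pow Nat.prime_two).1 h1
    exact ⟨n, h2⟩
  have key : ¬ (2 ∣ charDegree (χ : Spor.Co2 → ℂ) ∧ 11 ∣ charDegree (χ : Spor.Co2 → ℂ)) := by
    rintro ⟨h2, h11⟩
    obtain ⟨ho, hc, -⟩ := full h (r := 11) (n := 1) (by norm_num) one_ne_zero (by rw [hN]; norm_num)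
      (by rw [hN]; norm_num) (by rw [pow_one]; exact h11)
    rw [pow_one] at hc
    have hx : ¬ IsConj x (Co2Type.Mono.mo2 Sixteen.n0 Sixteen.Q0) := by
      intro hxy
      obtain ⟨c, hc'⟩ := isConj_iff.1 hxy
      obtain ⟨n, hn⟩ := hy2
      have h1 : orderOf x = 2 ^ n := by
        rw [← hn, ← hc', ← MulAut.conj_apply, MulEquiv.orderOf_eq]
      rw [ho] at h1
      have h3 : (11 : ℕ) ∣ 2 := (by norm_num : Nat.Prime 11).dvd_of_dvd_pow (h1 ▸ dvd_refl 11 : 11 ∣ 2 ^ n)
      revert h3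
      norm_num
    have h1 := H849.OZ.one_prime h Nat.prime_two h2 hy2 hy hx
    rw [hc] at h1
    have h3 : cent (Co2Type.Mono.mo2 Sixteen.n0 Sixteen.Q0) ≤ 32 := Sixteen.centralizer_le
    omega
  simp only [List.mem_cons, List.not_mem_nil, or_false] at hm
  rcases hm with hm | hm | hm | hm | hm | hm | hm | hm | hm | hm | hm | hm
  · exact key (by rw [hm]; norm_num)
  · rw [hm] at h7; norm_num at h7
  · exact key (by rw [hm]; norm_num)
  · exact key (by rw [hm]; norm_num)
  · exact key (by rw [hm]; norm_num)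
  · rw [hm] at h7; norm_num at h7
  · rw [hm] at h7; norm_num at h7
  · exact key (by rw [hm]; norm_num)
  · exact key (by rw [hm]; norm_num)
  · exact key (by rw [hm]; norm_num)
  · rw [hm] at h7; norm_num at h7
  · exact key (by rw [hm]; norm_num)

/-- **`Co₂`.** -/
theorem row_co2 {S : Type u} [Group S] [Finite S] (_hs : IsSimpleGroup S) (h : Spor.IsoCo2 S) : H730.OZ.Row S := by
  obtain ⟨e⟩ := h
  have hfin : Finite Spor.Co2 := Finite.of_equiv _ e.toEquiv
  exact H730.OZ.Row.congr e row_co2'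

end Cfsg.Agent.H490.OZ
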