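import Cfsg.Agent.Co2Type.Mono
import Cfsg.Agent.MonsterU.CoFrameL2
import Cfsg.Agent.SporadicStructure.Co0Matrix
import Cfsg.Agent.CpAutBig.FixCount

/-!
# An element of order 16 of `Co₂`: the fixed classes in `Λ/2Λ` (helper490)

`y = mo n0 Q0` is a signed permutation of order 16 fixing `u = (4, 4, 0²²)`.  Its fixed points on `Λ/2Λ` are `0`, the
class `f0` of the frame, the class of `u` and their sum, so an element of `Co0` commuting with `y` is a signed
permutation (`mem_N`).
-/

set_option autoImplicit false
open scoped Pointwise

namespace Cfsg.Agent.H490.OZ.Sixteen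

open Cfsg Cfsg.Agent.SporadicA.GolayBase Cfsg.Agent.SporadicA.GolayPerm
open Cfsg.Agent.SporadicStructure.M24El Cfsg.Agent.SporadicA.Co0Mono
open Cfsg.Agent.SporadicStructure
open Cfsg.Agent.Co2Type.Mono
open Cfsg.Agent.SporadicStructure.Co0Matrix (vec leechB gens vec_apply vec_mem_of_leechB leech_le)
open Cfsg.Agent.MonsterU.Lam2 (L2 cl cl_surjective cl_eq cl_eq_zero smul_cl act act_cl card_L2)
open Cfsg.Agent.MonsterU.CoFrameL2 (f0 f0_ne)

/-! ### The element -/

/-- the signs -/
def n0 : ℕ := 8242322
/-- the permutation -/
def Q0 : ℕ := 982854572126671743928810886658052448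
/-- its inverse -/
def QI : ℕ := 961470564252677281521580230695138400

theorem n0_inE : inE n0 = true := by decide +kernel
theorem Q0_ok : okP Q0 = true := by decide +kernel
theorem Q0_QI : ∀ i < 24, papp QI i < 24 ∧ papp Q0 (papp QI i) = i := by decide +kernel
theorem Q0_none : papp Q0 23 = 23 := by decide +kernel
theorem n0_none : n0.testBit 23 = false := by decide +kernel

theorem y_apply (v : leechLattice) (p : GolayPt) : ((mo n0 Q0 • v : leechLattice) : GolayPt → ℤ) p =
    if n0.testBit (idx p) then -(v : GolayPt → ℤ) (pt (papp QI (idx p)))
      else (v : GolayPt → ℤ) (pt (papp QI (idx p))) := by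
  unfold mo
  rw [mul_smul, signCo0_smul, signMap_apply, permCo0_smul, permMap_apply, coe_cd (isCode_of_inE n0_inE), word_apply]
  have h : (el Q0 : Equiv.Perm GolayPt).symm p = pt (papp QI (idx p)) := by
    rw [Equiv.symm_apply_eq, coe_el (ok_of_okP Q0_ok), permOf_apply, idx_pt (Q0_QI _ (idx_lt p)).1,
      (Q0_QI _ (idx_lt p)).2, pt_idx]
  rw [h]
  cases n0.testBit (idx p) <;> simp [sgn_zero, sgn_one]

/-! ### The certificate -/

/-- the odd vector -/
def s0 : List ℤ := [1, 1, 1, 1, 1, 1, 1, 1, 1, 1, 1, 1, 1, 1, 1, 1, 1, 1, 1, 1, 1, 1, 1, -3]
/-- a vector of a dodecad -/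
def t0 : List ℤ := [2, 2, 2, 2, 2, 0, 2, 0, 2, 2, 0, 0, 2, 2, 0, 0, 2, 0, 2, 0, 0, 0, 0, 0]

theorem s0_leech : leechB s0 = true := by decide +kernel
theorem t0_leech : leechB t0 = true := by decide +kernel

/-- entry `j` of a packed vector -/
def d10 (N j : ℕ) : ℤ := ((N >>> (10 * j) % 1024 : ℕ) : ℤ) - 512

/-- a packed vector -/
def l10 (N : ℕ) : List ℤ := (List.range 24).map (d10 N)

/-- a generator of the lattice is `(y - 1) w + e s + d t + 2 z` -/
def rowB (g : List ℤ) (c : ℕ × ℕ × ℤ × ℤ) : Bool :=
  leechB (l10 c.1) && (leechB (l10 c.2.1) && (List.range 24).all fun j => decide (g.getD j 0 =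
    (if n0.testBit j then -(d10 c.1 (papp QI j)) else d10 c.1 (papp QI j)) - d10 c.1 j +
      c.2.2.1 * s0.getD j 0 + c.2.2.2 * t0.getD j 0 + 2 * d10 c.2.1 j))

/-- all rows -/
def chkAll : List (List ℤ) → List (ℕ × ℕ × ℤ × ℤ) → Bool
  | [], _ => true
  | g :: gs, c :: cs => rowB g c && chkAll gs cs
  | _ :: _, [] => false

theorem chkAll_spec : ∀ (gs : List (List ℤ)) (cs : List (ℕ × ℕ × ℤ × ℤ)), chkAll gs cs = true →
    ∀ g ∈ gs, ∃ c, rowB g c = true
  | [], _, _, g, hg => absurd hg List.not_mem_nil
  | _ :: _, [], h, _, _ => by simp [chkAll] at h
  | g :: gs, c :: cs, h, g', hg' => by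
    rw [chkAll, Bool.and_eq_true] at h
    rcases List.mem_cons.1 hg' with rfl | h1
    · exact ⟨c, h.1⟩
    · exact chkAll_spec gs cs h.2 g' h1

/-- the certificate -/
def crt : List (ℕ × ℕ × ℤ × ℤ) :=
  [(1312013315405423519883003081699153760117260601295559313667275444158202368,
    880745105923787754334765329259381677714155464000477474096505495474405890, 0, 0),
   (1118855410925199428754013476839795008139802287255185290402926728994882048,
    880795701958961130188679364546024091749152805278948852410848180250874368, 0, 0),
   (691176415456793743801664764635742045327526382320325968896274789428627968,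
    880910452871188873528523834980959706244137600100587229678262330717639168, 0, 0),
   (1360376099647753589505034042764293965099446233206749856609138705389060608,
    880775465505364349183923996748445694898822711121067268275204503472966144, 0, 0),
   (1401763004217353275094824729150662081226032914149268676652511800618125824,
    880761982234600178022321071898511597007214696072081489479532636503804416, 0, 0),
   (1125787451030167264563017412667943338232355993813768486752665625378163200,
    880809178650920945094965472874598354250405422041898379672174869042694656, 0, 0),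
   (1118855404301413349190981700614949923195294215817763587862830175465507328,
    880795698648671885297074531127744525154850019289686186613465191805358592, 0, 0),
   (1139580883073544841389951579154357009599781674837544658295947705866258944,
    880805828387582268196513207240097533419973783117755107683404133014442496, 0, 0),
   (1194828593244368946567214765231207865272251937339293740606020312193565184,
    880822714539289536714877996747025839014450819547259002167454576597797376, 0, 0),
   (1098170404960662691650181075000725000622142987707121106661426365827910144,
    880805828371512884688929299746835221223735994067547263440044212665979392, 0, 0),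
   (1112021097342299853964556503323515760639747665753951776767027230309614080,
    880829451251004048219522488224354401796662837483305700056272042545646080, 0, 0),
   (1263717917987833414151032128764231366376566027657719363157575161807897088,
    880758582647876942049580133169324956455302521416991310507080468394412544, 0, 0),
   (1312030181865708867739836823217459810775884297290197673443576859536656896,
    880758602374670321783069280629665706145365847165658456137985353333608960, 0, 0),
   (1318931928212499431527271579079736830911423423122704568383511142639077888,
    880758602374670321783069280629671145346324599041410378516476020503613952, 0, 0),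
   (1353474353300963025717599286907592125946627780019963399622138271541756416,
    880775465505364349183923996754020881198455366906451197843366589554493952, 0, 0),
   (1422464863394596923821705622671071305536126472366661119447100200933919232,
    880761975655798954166937720622691720032978210946444356870600726319469056, 0, 0),
   (1456960095418790562835559190119959784786591801673804335047157735833993728,
    880755219217291062928807001831011373860186187123603017857523645359327744, 0, 0),
   (1229266551779115756522343081764210396556879098971301651887772705617347072,
    880782238392480655005447335306809631080861432003813656767641931649384960, 0, 0),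
   (1574188643996426717911021553751872424038880506484264762497131900360458752,
    880704600193252631693140956807323185151782792805788970055998696642316800, 0, 0),
   (1332799513257141134105132927808910482578613656206441018191989129278390784,
    880785624821579507135231983358843716799186978716628797623440499397886464, 0, 0),
   (718702494643749109329379861249865069651229494459610138660399446997076480,
    880869960282189929094074147019601457148041227673052937090636778624782848, 0, 0),
   (1091251765931565524270873134961347921568828831739437475938691354043353600,
    880795692095569140490243970747178114205666583538743646847111264215763456, 0, 0),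
   (1263701025231626458113564282168686006332642772830924007877798953723890176,
    880751813038914234253436545707197262662490786799765974310417312537643520, 0, 0),
   (884287094004430866810017908485214350052465058846839595853628910128857600,
    884287094004430866810017908485214350052465058846839595853628910128857600, 0, 1),
   (656644123359645496003455212748647804651841602069639990693827950907228672,
    884347849346187184961243229877854403872404678156841641503968404884163072, 0, 0),
   (873985034302251881779496887298890801568922175109446906511078560593609216,
    884317453589221340815678793618742876103585941955897231162438164467419648, 0, 0),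
   (830823852885029341664848477252392705709260357181317827608289969339631105,
    884303967017809556090028755095057510346971092521483794648316120540908032, 0, 0),
   (879132707344934650470237992869536887418942253590396818924111804721794561,
    884303963742863553986437581702188518255299577083851383065940679205589504, 0, 0),
   (641147220549026750904803126618764133070139703897017106263347166621206017,
    884361352363012318023054120754780024579446804895427904284401630557241856, 0, 1),
   (1072307379645162334490064715406214932251504132962223951587217442000602625,
    884266814835194457472302819907558715716804656448625183334009321013383680, 0, 0),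
   (917095626340254118100379686562436410873616722578088741252994095136640513,
    884307307430624292640648319027297428186435695659400358191745446147789312, 0, 1),
   (1072368134929059418391458956524404179723133043288121041151691390119839233,
    884297223743366348942379908055549411570182604540774215388200640375689728, 0, 0),
   (848064732206292436243391344097648856316383937697630927812038598749324801,
    884297217164540041196990491400036322451267614267906194728002154809264640, 0, 0),
   (1199996492835488647124028475629970411544297402352637553382561856966102529,
    884270221013580695682266808290183224947902932776246527461484391674939904, 0, 1),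
   (1232751151204282548836244485349974095974277536598603984194320897954810368,
    884256731138304285827148681137374489829234056169559382985865110309310976, 0, 1),
   (708444304031995258580481770301491615832882547194984334615718627245556224,
    884364725631285442984866401455648628401770946327100987113959393023494656, 0, 0),
   (1063702169087412699308634718362212010184847180006258149340011080343618048,
    884273600870293525007196981671039340835927531541243934223431862606889472, 0, 0),
   (1289695621803713071852600312707569761196162293350006004737777262470368769,
    884256737729964149513501108735412777605421433875215435853650265501075968, 0, 1),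
   (967114767163738171331691533979940272419367958129638888753028410901004800,
    884293827434793572438164716370153565402489286897321305952774879613291008, 0, 1),
   (963707769723837365961672006868370356555527240677348874033413610728325632,
    884317470044276326621349219029108395025647667628319581789872538929072640, 0, 0),
   (998202978723841532001938897362238532288507191222035509569427521770359296,
    884310703742388984551320017991340968376463756819082071897005055531289088, 0, 1),
   (1327577664179328635831677864785487867235390548183543882558606735345978881,
    884222975254601513319897986419573414886330863272835869714660029297596928, 0, 0),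
   (1393073441833951901627341715208482537389148660246960597277881750531870209,
    884182479387445810836292652029635582944821226177065438670245584412609024, 0, 1),
   (1339633757809189923450129929071517382205518777182164485213197732407673344,
    884206085827948233520924781740051562554068209523669801026756165639864832, 0, 1),
   (1156855531397530925859025971586133997043606442254267683819065663109464576,
    884263484311488990320967793471588899773850450345609874305413497712280064, 0, 1),
   (1589709136773234727241558896112950582054262989843584221774218907482588673,
    884152093500287169699659738964446280785305890766526399760572753530849792, 0, 1),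
   (801567277199314049863927254241249361712007909959000707505210883503030784,
    891239459394543124494208756141238542754801621968341367710114994763334144, 0, 0),
   (801567277199314049863927254241249361712007909959000707505210883503030784,
    886064836278229964743512316506471701579796733814231214740604089504630273, 0, 0),
   (884287094004430866810017908485214350052465058846839595853628910128857600,
    884287094004430866810017908485214350052465058846839595853628910128857600, 1, 0)]

set_option maxRecDepth 100000 in
theorem chk : chkAll gens crt = true := by decide +kernel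

/-- the vector of a list -/
def lv (l : List ℤ) (h : leechB l = true) : leechLattice := ⟨vec l, vec_mem_of_leechB h⟩

theorem vec_l10 (N : ℕ) (p : GolayPt) : vec (l10 N) p = d10 N (idx p) := by
  unfold l10
  rw [Co0Matrix.getD_range_map]

theorem exists_cert {g : List ℤ} (hg : g ∈ gens) : ∃ w z : leechLattice, ∃ e d : ℤ, vec g =
    (((mo n0 Q0 • w - w + e • lv s0 s0_leech + d • lv t0 t0_leech + (2 : ℕ) • z : leechLattice)) : GolayPt → ℤ) := by
  obtain ⟨⟨w, z, e, d⟩, h⟩ := chkAll_spec _ _ chk g hg
  unfold rowB at h
  rw [Bool.and_eq_true, Bool.and_eq_true, List.all_eq_true] at h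
  obtain ⟨h1, h2, h3⟩ := h
  refine ⟨lv (l10 w) h1, lv (l10 z) h2, e, d, ?_⟩
  funext p
  have h4 := of_decide_eq_true (h3 (idx p) (List.mem_range.2 (idx_lt p)))
  rw [vec_apply, h4]
  simp only [AddSubgroup.coe_add, AddSubgroup.coe_sub, AddSubgroup.coe_zsmul, AddSubgroup.coe_nsmul, Pi.add_apply,
    Pi.sub_apply, Pi.smul_apply, y_apply, lv, vec_l10, idx_pt (Q0_QI _ (idx_lt p)).1]
  rw [smul_eq_mul, smul_eq_mul, nsmul_eq_mul, vec_apply, vec_apply]
  push_cast
  rfl

/-! ### The fixed classes -/

/-- `y - 1` on `Λ/2Λ` -/
noncomputable def psi : L2 →+ L2 := act (mo n0 Q0) - AddMonoidHom.id L2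

theorem psi_cl (v : leechLattice) : psi (cl v) = cl (mo n0 Q0 • v - v) := by
  unfold psi
  rw [AddMonoidHom.sub_apply, act_cl, AddMonoidHom.id_apply, map_sub]

/-- `(y - 1) Λ/2Λ` together with the classes of `s`, `t` -/
noncomputable def T : AddSubgroup L2 :=
  psi.range ⊔ (AddSubgroup.zmultiples (cl (lv s0 s0_leech)) ⊔ AddSubgroup.zmultiples (cl (lv t0 t0_leech)))

theorem cl_mem_T (v : leechLattice) : cl v ∈ T := by
  have h := leech_le ((T.comap cl).map leechLattice.subtype) (by
    intro g hg
    obtain ⟨w, z, e, d, h⟩ := exists_cert hg
    rw [h]
    refine AddSubgroup.mem_map.2 ⟨mo n0 Q0 • w - w + e • lv s0 s0_leech + d • lv t0 t0_leech + (2 : ℕ) • z, ?_, rfl⟩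
    rw [AddSubgroup.mem_comap, map_add, map_add, map_add, ← psi_cl, Cfsg.Agent.MonsterU.Lam2.cl_two, add_zero,
      map_zsmul, map_zsmul, add_assoc]
    refine AddSubgroup.add_mem_sup ⟨_, rfl⟩ (AddSubgroup.add_mem_sup ?_ ?_)
    · exact AddSubgroup.zsmul_mem _ (AddSubgroup.mem_zmultiples _) _
    · exact AddSubgroup.zsmul_mem _ (AddSubgroup.mem_zmultiples _) _)
  obtain ⟨w, hw, hwv⟩ := AddSubgroup.mem_map.1 (h v.2)
  have : w = v := Subtype.ext hwv
  rw [← this]
  exact hw

theorem card_zm (x : L2) : Nat.card (AddSubgroup.zmultiples x) ≤ 2 := by
  rw [Nat.card_zmultiples]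
  refine Nat.le_of_dvd (by norm_num) (addOrderOf_dvd_of_nsmul_eq_zero ?_)
  rw [two_nsmul, Cfsg.Agent.MonsterU.Lam2.add_self]

theorem card_ker : Nat.card psi.ker ≤ 4 := by
  have h1 : Nat.card psi.ker * Nat.card psi.range = Nat.card L2 := by
    rw [AddSubgroup.card_eq_card_quotient_mul_card_addSubgroup psi.ker,
      Nat.card_congr (QuotientAddGroup.quotientKerEquivRange psi).toEquiv, mul_comm]
  have h2 : Nat.card L2 ≤ Nat.card psi.range * (2 * 2) := by
    have h3 : Function.Surjective fun x : psi.range × AddSubgroup.zmultiples (cl (lv s0 s0_leech)) ×
        AddSubgroup.zmultiples (cl (lv t0 t0_leech)) => (x.1 : L2) + (x.2.1 + x.2.2) := by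
      intro x
      obtain ⟨v, rfl⟩ := cl_surjective x
      obtain ⟨a, ha, b, hb, hab⟩ := AddSubgroup.mem_sup.1 (cl_mem_T v)
      obtain ⟨c, hc, d, hd, hcd⟩ := AddSubgroup.mem_sup.1 hb
      exact ⟨(⟨a, ha⟩, ⟨c, hc⟩, ⟨d, hd⟩), by rw [← hab, ← hcd]⟩
    have h4 := Nat.card_le_card_of_surjective _ h3
    rw [Nat.card_prod, Nat.card_prod] at h4
    exact h4.trans (Nat.mul_le_mul le_rfl (Nat.mul_le_mul (card_zm _) (card_zm _)))
  rw [← h1, mul_comm] at h2
  exact Nat.le_of_mul_le_mul_left h2 Nat.card_pos

theorem norm_congr {v w : leechLattice} (h : cl v = cl w)
    (hn : sqNorm (v : GolayPt → ℤ) + sqNorm (w : GolayPt → ℤ) < 128) :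
    sqNorm (v : GolayPt → ℤ) = sqNorm (w : GolayPt → ℤ) := by
  obtain ⟨z, hz⟩ := cl_eq.1 h
  have h1 := congrArg (fun a : leechLattice => (a : GolayPt → ℤ)) hz
  rcases CpAutBig.FixCount.sqNorm_congr w.2 z.2 h1 hn with h2 | h2
  · rw [h2]
  · rw [h2]
    simp [sqNorm]

theorem sqNorm_U : sqNorm ((Spor.leechU : leechLattice) : GolayPt → ℤ) = 32 := by
  decide +kernel

theorem sqNorm_e : sqNorm ((Co0Base.e8 none : leechLattice) : GolayPt → ℤ) = 64 := by
  rw [Co0Base.e8_coe]
  decide +kernel

theorem sqNorm_d : sqNorm ((Co0Base.e8 none - Spor.leechU : leechLattice) : GolayPt → ℤ) = 32 := by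
  rw [AddSubgroup.coe_sub, Co0Base.e8_coe]
  decide +kernel

theorem sqNorm_z : sqNorm ((0 : leechLattice) : GolayPt → ℤ) = 0 := by
  simp [sqNorm]

theorem y_e8 : mo n0 Q0 • Co0Base.e8 none = Co0Base.e8 none := by
  apply Subtype.ext
  funext j
  have h23 : idx none = 23 := by decide +kernel
  have hpt : pt 23 = none := by
    have := pt_idx none
    rwa [h23] at this
  have h1 : (el Q0 : Equiv.Perm GolayPt) none = none := by
    rw [coe_el (ok_of_okP Q0_ok), permOf_apply, h23, Q0_none, hpt]
  rw [mo_smul_e8 (isCode_of_inE n0_inE), h1, Co0Base.e8_coe, Pi.single_apply]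
  by_cases h : none = j
  · subst h
    rw [if_pos rfl, if_pos rfl, h23, n0_none]
    rfl
  · rw [if_neg h, if_neg (Ne.symm h)]

theorem U_ne : cl Spor.leechU ≠ 0 := by
  intro h
  rw [← map_zero cl] at h
  have h1 := norm_congr h (by rw [sqNorm_U, sqNorm_z]; norm_num)
  rw [sqNorm_U, sqNorm_z] at h1
  omega

theorem f0_ne_U : f0 ≠ cl Spor.leechU := by
  intro h
  have h1 := norm_congr (v := Co0Base.e8 none) h (by rw [sqNorm_U, sqNorm_e]; norm_num)
  rw [sqNorm_U, sqNorm_e] at h1
  omega

/-- **The fixed classes.** -/
theorem fixed {x : L2} (hx : mo n0 Q0 • x = x) :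
    x = 0 ∨ x = f0 ∨ x = cl Spor.leechU ∨ x = f0 + cl Spor.leechU := by
  classical
  have hk : ∀ {x : L2}, mo n0 Q0 • x = x → x ∈ (psi.ker : Set L2) := by
    intro x h
    show psi x = 0
    have : psi x = mo n0 Q0 • x - x := rfl
    rw [this, h, sub_self]
  have hf : mo n0 Q0 • f0 = f0 := by
    show mo n0 Q0 • cl (Co0Base.e8 none) = cl (Co0Base.e8 none)
    rw [smul_cl, y_e8]
  have hU : mo n0 Q0 • cl Spor.leechU = cl Spor.leechU := by
    rw [smul_cl, mo_smul_leechU n0_inE Q0_ok]
  have hs : ({0, f0, cl Spor.leechU, f0 + cl Spor.leechU} : Set L2) ⊆ (psi.ker : Set L2) := by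
    intro z hz
    have h1 : f0 ∈ psi.ker := hk hf
    have h2 : cl Spor.leechU ∈ psi.ker := hk hU
    simp only [Set.mem_insert_iff, Set.mem_singleton_iff] at hz
    rcases hz with rfl | rfl | rfl | rfl
    · exact psi.ker.zero_mem
    · exact h1
    · exact h2
    · exact psi.ker.add_mem h1 h2
  have hc : ({0, f0, cl Spor.leechU, f0 + cl Spor.leechU} : Set L2).ncard = 4 := by
    have e1 : (0 : L2) ≠ f0 := f0_ne.symm
    have e2 : (0 : L2) ≠ cl Spor.leechU := U_ne.symm
    have e3 : (0 : L2) ≠ f0 + cl Spor.leechU := fun h => f0_ne_U (Cfsg.Agent.MonsterU.Lam2.eq_of_add_eq_zero h.symm)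
    have e4 : f0 ≠ f0 + cl Spor.leechU := fun h => U_ne (left_eq_add.1 h)
    have e5 : cl Spor.leechU ≠ f0 + cl Spor.leechU := fun h => f0_ne (right_eq_add.1 h)
    rw [Set.ncard_insert_of_notMem (by simp [e1, e2, e3]), Set.ncard_insert_of_notMem (by simp [f0_ne_U, e4]),
      Set.ncard_pair e5]
  have h1 := Set.eq_of_subset_of_ncard_le hs (by
    rw [hc]
    exact card_ker) (Set.toFinite _)
  have h2 : x ∈ ({0, f0, cl Spor.leechU, f0 + cl Spor.leechU} : Set L2) := by
    rw [h1]
    exact hk hx
  simpa using h2

/-- **An element commuting with `y` is a signed permutation.** -/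
theorem mem_N {g : Co0} (hc : g * mo n0 Q0 = mo n0 Q0 * g) :
    g ∈ SporadicA.Co1Simple.N := by
  have h1 : mo n0 Q0 • (g • f0) = g • f0 := by
    show mo n0 Q0 • (g • cl (Co0Base.e8 none)) = g • cl (Co0Base.e8 none)
    rw [smul_cl, smul_cl, ← mul_smul, ← hc, mul_smul, y_e8]
  have hn : sqNorm ((g • Co0Base.e8 none : leechLattice) : GolayPt → ℤ) = 64 := by rw [sqNorm_smul, sqNorm_e]
  have hcl : g • f0 = cl (g • Co0Base.e8 none) := rfl
  rcases fixed h1 with h | h | h | h
  · exfalso
    rw [hcl, ← map_zero cl] at h
    have h2 := norm_congr h (by rw [hn, sqNorm_z]; norm_num)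
    rw [hn, sqNorm_z] at h2
    omega
  · exact Cfsg.Agent.MonsterU.CoFrameL2.mem_N_of_cong ((Cfsg.Agent.MonsterU.CoFrameL2.cong_iff_cl _ _).2 h)
  · exfalso
    rw [hcl] at h
    have h2 := norm_congr h (by rw [hn, sqNorm_U]; norm_num)
    rw [hn, sqNorm_U] at h2
    omega
  · exfalso
    have h3 : f0 + cl Spor.leechU = cl (Co0Base.e8 none - Spor.leechU) := (Cfsg.Agent.MonsterU.Lam2.cl_sub _ _).symm
    rw [hcl, h3] at h
    have h2 := norm_congr h (by rw [hn, sqNorm_d]; norm_num)
    rw [hn, sqNorm_d] at h2
    omega

end Cfsg.Agent.H490.OZ.Sixteen
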